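import Mathlib

/-!
# Finite ring maps send closed nowhere dense sets to nowhere dense sets (prime spectra)

Elementary proof, no Noetherian hypotheses.
-/

set_option autoImplicit false

namespace Groth.Agent.Helper19.QfND

open PrimeSpectrum

/-- Generic "freeness modulo nilpotents" of `S / N` : after inverting some `c` (with `a * c` still
non-nilpotent), `S / N` is generated by a finite set `G` all of whose relations have coefficients
that are nilpotent on `D(a c)`. -/
theorem exists_generic_generators {R S : Type*} [CommRing R] [AddCommGroup S] [Module R S]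
    [Module.Finite R S] (N : Submodule R S) (a : R) (ha : ¬ IsNilpotent a) :
    ∃ (c : R) (G : Finset S), ¬ IsNilpotent (a * c) ∧
      (∀ x : S, c • x ∈ Submodule.span R (G : Set S) ⊔ N) ∧
      ∀ v : S → R, ∑ g ∈ G, v g • g ∈ N → ∀ g ∈ G, IsNilpotent (a * c * v g) := by
  classical
  let Pred : ℕ → Prop := fun n => ∃ (c : R) (G : Finset S), ¬ IsNilpotent (a * c) ∧ G.card ≤ n ∧
    ∀ x : S, c • x ∈ Submodule.span R (G : Set S) ⊔ N
  have hex : ∃ n, Pred n := by
    obtain ⟨G, hG⟩ := (Module.Finite.fg_top (R := R) (M := S))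
    refine ⟨G.card, 1, G, by simpa using ha, le_rfl, fun x => ?_⟩
    rw [hG]; exact Submodule.mem_sup_left Submodule.mem_top
  obtain ⟨c, G, hc, hcard, hgen⟩ := Nat.find_spec hex
  refine ⟨c, G, hc, hgen, ?_⟩
  intro v hv g₀ hg₀
  by_contra hnil
  have hpos : 0 < Nat.find hex := by
    have : 0 < G.card := Finset.card_pos.2 ⟨g₀, hg₀⟩
    omega
  refine Nat.find_min hex (m := Nat.find hex - 1) (by omega) ⟨c * v g₀, G.erase g₀, ?_, ?_, ?_⟩
  · rwa [← mul_assoc]
  · rw [Finset.card_erase_of_mem hg₀]; omega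
  · intro x
    have key : Submodule.span R (G : Set S) ⊔ N ≤
        (Submodule.span R ((G.erase g₀ : Finset S) : Set S) ⊔ N).comap
          (LinearMap.lsmul R S (v g₀)) := by
      refine sup_le (Submodule.span_le.2 ?_) ?_
      · intro g hg
        have hg' : g ∈ G := hg
        show v g₀ • g ∈ Submodule.span R ((G.erase g₀ : Finset S) : Set S) ⊔ N
        by_cases hgg : g = g₀
        · subst hgg
          have h1 : v g • g = ∑ g' ∈ G, v g' • g' - ∑ g' ∈ G.erase g, v g' • g' := by
            rw [← Finset.add_sum_erase G (fun g' => v g' • g') hg']; abel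
          rw [h1]
          refine Submodule.sub_mem _ (Submodule.mem_sup_right hv) (Submodule.mem_sup_left ?_)
          exact Submodule.sum_mem _ fun g' hg'' =>
            Submodule.smul_mem _ _ (Submodule.subset_span hg'')
        · exact Submodule.mem_sup_left (Submodule.smul_mem _ _
            (Submodule.subset_span (Finset.mem_erase.2 ⟨hgg, hg'⟩)))
      · intro n hn
        exact Submodule.mem_sup_right (Submodule.smul_mem _ _ hn)
    have := key (hgen x)
    rw [mul_comm, mul_smul]
    exact this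

/-- On a suitable `D(a c)`, the closed set `V(J)` is cut out by finitely many elements. -/
theorem exists_finite_generators_on_open {R S : Type*} [CommRing R] [CommRing S] [Algebra R S]
    [Module.Finite R S] (J : Ideal S) (a : R) (ha : ¬ IsNilpotent a) :
    ∃ (c : R) (J₀ : Finset S), ¬ IsNilpotent (a * c) ∧ (∀ x ∈ J₀, x ∈ J) ∧
      ∀ q : Ideal S, q.IsPrime → algebraMap R S (a * c) ∉ q → (∀ x ∈ J₀, x ∈ q) → J ≤ q := by
  classical
  obtain ⟨c, G, hc, hgen, hrel⟩ := exists_generic_generators (J.restrictScalars R) a ha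
  obtain ⟨L, hL⟩ := (Module.Finite.fg_top (R := R) (M := S))
  have hdec : ∀ s : S, ∃ (u : S → R) (n : S), n ∈ J ∧ c • s = ∑ g ∈ G, u g • g + n := by
    intro s
    obtain ⟨y, hy, z, hz, hyz⟩ := Submodule.mem_sup.1 (hgen s)
    obtain ⟨u, -, hu⟩ := Submodule.mem_span_finset.1 hy
    exact ⟨u, z, hz, by rw [hu, hyz]⟩
  choose u n hn hun using hdec
  refine ⟨c, L.image n, hc, ?_, ?_⟩
  · intro x hx
    obtain ⟨s, -, rfl⟩ := Finset.mem_image.1 hx
    exact hn s
  · intro q hq hacq hJ₀ x hx
    have hcq : algebraMap R S c ∉ q := fun h => hacq (by rw [map_mul]; exact q.mul_mem_left _ h)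
    have hxL : x ∈ Submodule.span R (L : Set S) := by rw [hL]; exact Submodule.mem_top
    obtain ⟨t, -, ht⟩ := Submodule.mem_span_finset.1 hxL
    let w : S → R := fun g => ∑ s ∈ L, t s * u s g
    have hsum : c • x = ∑ g ∈ G, w g • g + ∑ s ∈ L, t s • n s := by
      rw [← ht, Finset.smul_sum]
      simp only [w, Finset.sum_smul]
      rw [Finset.sum_comm, ← Finset.sum_add_distrib]
      refine Finset.sum_congr rfl fun s _ => ?_
      rw [smul_comm, hun s, smul_add, Finset.smul_sum]
      simp only [mul_smul]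
    have hnJ : ∑ s ∈ L, t s • n s ∈ J := by
      refine Ideal.sum_mem _ fun s _ => ?_
      rw [Algebra.smul_def]; exact J.mul_mem_left _ (hn s)
    have hwJ : ∑ g ∈ G, w g • g ∈ J.restrictScalars R := by
      have : ∑ g ∈ G, w g • g = c • x - ∑ s ∈ L, t s • n s := by rw [hsum]; abel
      rw [this]
      refine Submodule.sub_mem _ ?_ hnJ
      show c • x ∈ J
      rw [Algebra.smul_def]; exact J.mul_mem_left _ hx
    have hwq : ∀ g ∈ G, algebraMap R S (w g) ∈ q := by
      intro g hg
      have hnil := (hrel w hwJ g hg).map (algebraMap R S)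
      obtain ⟨k, hk⟩ := hnil
      have hmem : algebraMap R S (a * c * w g) ∈ q := hq.mem_of_pow_mem k (by rw [hk]; exact q.zero_mem)
      rw [map_mul] at hmem
      exact (hq.mem_or_mem hmem).resolve_left hacq
    have hcx : algebraMap R S c * x ∈ q := by
      rw [← Algebra.smul_def, hsum]
      refine q.add_mem (Ideal.sum_mem _ fun g hg => ?_) (Ideal.sum_mem _ fun s hs => ?_)
      · rw [Algebra.smul_def]; exact q.mul_mem_right _ (hwq g hg)
      · rw [Algebra.smul_def]; exact q.mul_mem_left _ (hJ₀ _ (Finset.mem_image_of_mem n hs))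
    exact (hq.mem_or_mem hcx).resolve_left hcq

/-- Elements of a minimal prime are nilpotent after localising at it. -/
theorem exists_mul_pow_eq_zero_of_mem_minimalPrimes {S : Type*} [CommRing S] {q : Ideal S}
    (hq : q ∈ minimalPrimes S) {x : S} (hx : x ∈ q) : ∃ h, h ∉ q ∧ ∃ n : ℕ, h * x ^ n = 0 := by
  haveI := hq.1.1
  by_contra hcon
  push Not at hcon
  let M : Submonoid S := q.primeCompl ⊔ Submonoid.powers x
  have hM : Disjoint (((⊥ : Ideal S) : Set S)) (M : Set S) := by
    rw [Set.disjoint_left]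
    intro z hz hzM
    obtain ⟨y, hy, w, ⟨n, rfl⟩, rfl⟩ := Submonoid.mem_sup.1 hzM
    exact hcon y hy n (by simpa using hz)
  obtain ⟨q', hq'prime, -, hq'disj⟩ := Ideal.exists_le_prime_disjoint ⊥ M hM
  have hle : q' ≤ q := by
    intro z hz
    by_contra hzq
    exact Set.disjoint_left.1 hq'disj hz (Submonoid.mem_sup_left (show z ∈ q.primeCompl from hzq))
  have hxq' : x ∉ q' := fun h =>
    Set.disjoint_left.1 hq'disj h (Submonoid.mem_sup_right (Submonoid.mem_powers x))
  exact hxq' (hq.2 ⟨hq'prime, bot_le⟩ hle hx)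

/-- Finite ring maps send nowhere dense subsets of the spectrum to nowhere dense subsets. -/
theorem isNowhereDense_image_comap_of_finite {R S : Type*} [CommRing R] [CommRing S] [Algebra R S]
    [Module.Finite R S] (T : Set (PrimeSpectrum S)) (hT : IsNowhereDense T) :
    IsNowhereDense (PrimeSpectrum.comap (algebraMap R S) '' T) := by
  classical
  -- reduce to `T` closed
  suffices h : ∀ T : Set (PrimeSpectrum S), IsClosed T → IsNowhereDense T →
      IsNowhereDense (PrimeSpectrum.comap (algebraMap R S) '' T) from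
    (h _ isClosed_closure hT.closure).mono (Set.image_mono subset_closure)
  clear hT T
  intro T hTc hT
  haveI : Algebra.IsIntegral R S := inferInstance
  have hint : (algebraMap R S).IsIntegral := Algebra.IsIntegral.isIntegral (R := R) (A := S)
  have hcl : IsClosed (PrimeSpectrum.comap (algebraMap R S) '' T) :=
    PrimeSpectrum.isClosedMap_comap_of_isIntegral _ hint _ hTc
  rw [hcl.isNowhereDense_iff]
  by_contra hne
  obtain ⟨p₀, hp₀⟩ := Set.nonempty_iff_ne_empty.2 hne
  obtain ⟨_, ⟨a, rfl⟩, hp₀a, haI⟩ :=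
    PrimeSpectrum.isTopologicalBasis_basic_opens.exists_subset_of_mem_open hp₀ isOpen_interior
  have hasub : ((PrimeSpectrum.basicOpen a : Set (PrimeSpectrum R))) ⊆
      PrimeSpectrum.comap (algebraMap R S) '' T := haI.trans interior_subset
  have ha : ¬ IsNilpotent a := by
    rintro ⟨k, hk⟩
    exact hp₀a (p₀.2.mem_of_pow_mem k (by rw [hk]; exact p₀.asIdeal.zero_mem))
  set J : Ideal S := PrimeSpectrum.vanishingIdeal T with hJdef
  have hTJ : T = PrimeSpectrum.zeroLocus (J : Set S) := by
    rw [hJdef, PrimeSpectrum.zeroLocus_vanishingIdeal_eq_closure, hTc.closure_eq]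
  obtain ⟨c, J₀, hc, hJ₀J, hJ₀⟩ := exists_finite_generators_on_open J a ha
  -- a minimal prime of `R` avoiding `a c`
  obtain ⟨p₁, hp₁prime, -, hp₁disj⟩ := Ideal.exists_le_prime_disjoint (⊥ : Ideal R)
    (Submonoid.powers (a * c)) (by
      rw [Set.disjoint_left]
      rintro z hz ⟨k, rfl⟩
      exact hc ⟨k, by simpa using hz⟩)
  have hacp₁ : a * c ∉ p₁ := fun h =>
    Set.disjoint_left.1 hp₁disj h (Submonoid.mem_powers _)
  obtain ⟨p, hpmin, hpp₁⟩ := Ideal.exists_minimalPrimes_le (I := ⊥) (J := p₁) bot_le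
  haveI hpprime : p.IsPrime := hpmin.1.1
  have hacp : a * c ∉ p := fun h => hacp₁ (hpp₁ h)
  have hap : a ∉ p := fun h => hacp (p.mul_mem_right _ h)
  obtain ⟨q, hqT, hqp⟩ := hasub (show (⟨p, hpprime⟩ : PrimeSpectrum R) ∈ PrimeSpectrum.basicOpen a from hap)
  have hqp' : q.asIdeal.comap (algebraMap R S) = p := congrArg PrimeSpectrum.asIdeal hqp
  have hJq : J ≤ q.asIdeal := by
    rw [hTJ] at hqT
    exact hqT
  -- `q` is a minimal prime of `S`
  have hqmin : q.asIdeal ∈ minimalPrimes S := by
    refine ⟨⟨q.2, bot_le⟩, fun q' ⟨hq'prime, _⟩ hle => ?_⟩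
    by_contra hnle
    haveI := hq'prime
    have hlt : q' < q.asIdeal := lt_of_le_of_ne hle (fun h => hnle (h ▸ le_rfl))
    have hlt' := Ideal.IsIntegral.comap_lt_comap (R := R) hlt
    rw [hqp'] at hlt'
    exact absurd (hpmin.2 ⟨Ideal.IsPrime.comap _, bot_le⟩ hlt'.le) (not_le_of_gt hlt')
  have hex : ∀ x : S, ∃ h : S, x ∈ J₀ → (h ∉ q.asIdeal ∧ ∃ n : ℕ, h * x ^ n = 0) := by
    intro x
    by_cases hx : x ∈ J₀
    · obtain ⟨h, hh, hn⟩ := exists_mul_pow_eq_zero_of_mem_minimalPrimes hqmin (hJq (hJ₀J x hx))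
      exact ⟨h, fun _ => ⟨hh, hn⟩⟩
    · exact ⟨0, fun h => absurd h hx⟩
  choose hh hhspec using hex
  let H : S := algebraMap R S (a * c) * ∏ x ∈ J₀, hh x
  have hacq : algebraMap R S (a * c) ∉ q.asIdeal := by
    intro h
    have : a * c ∈ q.asIdeal.comap (algebraMap R S) := h
    rw [hqp'] at this
    exact hacp this
  have hHq : H ∉ q.asIdeal := by
    intro h
    rcases q.2.mem_or_mem h with h | h
    · exact hacq h
    · obtain ⟨x, hx, hxq⟩ := (q.2.prod_mem_iff).1 h
      exact (hhspec x hx).1 hxq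
  have hHsub : ((PrimeSpectrum.basicOpen H : Set (PrimeSpectrum S))) ⊆ T := by
    intro q' hq'
    have hq'H : H ∉ q'.asIdeal := hq'
    rw [hTJ]
    show (J : Set S) ⊆ q'.asIdeal
    refine hJ₀ q'.asIdeal q'.2 (fun h => hq'H (q'.asIdeal.mul_mem_right _ h)) ?_
    intro x hx
    obtain ⟨-, k, hk⟩ := hhspec x hx
    have hhx : hh x ∉ q'.asIdeal := fun h =>
      hq'H (q'.asIdeal.mul_mem_left _ (Ideal.prod_mem (I := q'.asIdeal) hx h))
    have : hh x * x ^ k ∈ q'.asIdeal := by rw [hk]; exact q'.asIdeal.zero_mem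
    exact q'.2.mem_of_pow_mem k ((q'.2.mem_or_mem this).resolve_left hhx)
  have hint' : (q : PrimeSpectrum S) ∈ interior T :=
    interior_maximal hHsub (PrimeSpectrum.basicOpen H).2 hHq
  rw [hTc.isNowhereDense_iff] at hT
  rw [hT] at hint'
  exact hint'

end Groth.Agent.Helper19.QfND
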