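import Mathlib
import Groth.Agent.Lib.Helper19.QfND.Alg

/-!
# Quasi-finite ring maps of finite type send nowhere dense sets to nowhere dense sets
-/

set_option autoImplicit false

namespace Groth.Agent.Helper19.QfND

open PrimeSpectrum

section Top

variable {X Y : Type*} [TopologicalSpace X] [TopologicalSpace Y]

theorem isNowhereDense_union {s t : Set X} (hs : IsNowhereDense s) (ht : IsNowhereDense t) :
    IsNowhereDense (s ∪ t) := by
  unfold IsNowhereDense at *
  rw [closure_union, interior_union_isClosed_of_interior_empty isClosed_closure ht, hs]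

theorem isNowhereDense_biUnion_finset {ι : Type*} (F : Finset ι) (s : ι → Set X)
    (h : ∀ i ∈ F, IsNowhereDense (s i)) : IsNowhereDense (⋃ i ∈ F, s i) := by
  classical
  induction F using Finset.induction_on with
  | empty => simp
  | insert i F hi ih =>
    rw [Finset.set_biUnion_insert]
    exact isNowhereDense_union (h i (Finset.mem_insert_self _ _))
      (ih fun j hj => h j (Finset.mem_insert_of_mem hj))

/-- The preimage of a nowhere dense set under an open continuous map is nowhere dense. -/
theorem isNowhereDense_preimage {f : X → Y} (hc : Continuous f) (ho : IsOpenMap f) {t : Set Y}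
    (ht : IsNowhereDense t) : IsNowhereDense (f ⁻¹' t) := by
  unfold IsNowhereDense at *
  by_contra hne
  obtain ⟨x, hx⟩ := Set.nonempty_iff_ne_empty.2 hne
  have h1 : f '' interior (closure (f ⁻¹' t)) ⊆ interior (closure t) := by
    refine interior_maximal ?_ (ho _ isOpen_interior)
    rintro _ ⟨z, hz, rfl⟩
    exact hc.closure_preimage_subset t (interior_subset hz)
  have : f x ∈ interior (closure t) := h1 ⟨x, hx, rfl⟩
  rw [ht] at this
  exact this

/-- Nowhere density can be checked locally. -/
theorem isNowhereDense_of_forall_exists_nhds {s : Set X}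
    (h : ∀ x : X, ∃ U : Set X, IsOpen U ∧ x ∈ U ∧ IsNowhereDense (s ∩ U)) : IsNowhereDense s := by
  unfold IsNowhereDense
  by_contra hne
  obtain ⟨x, hx⟩ := Set.nonempty_iff_ne_empty.2 hne
  obtain ⟨U, hU, hxU, hsU⟩ := h x
  have h1 : interior (closure s) ∩ U ⊆ interior (closure (s ∩ U)) := by
    refine interior_maximal ?_ (isOpen_interior.inter hU)
    rintro z ⟨hz1, hz2⟩
    have := hU.inter_closure (t := s) ⟨hz2, interior_subset hz1⟩
    rwa [Set.inter_comm] at this
  have : x ∈ interior (closure (s ∩ U)) := h1 ⟨hx, hxU⟩
  rw [hsU] at this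
  exact this

end Top

/-- Zariski's main theorem + the finite case : quasi-finite ring maps of finite type send nowhere
dense subsets of the spectrum to nowhere dense subsets. -/
theorem isNowhereDense_image_comap_of_quasiFinite {R A : Type*} [CommRing R] [CommRing A]
    [Algebra R A] [Algebra.FiniteType R A] [Algebra.QuasiFinite R A]
    (T : Set (PrimeSpectrum A)) (hT : IsNowhereDense T) :
    IsNowhereDense (PrimeSpectrum.comap (algebraMap R A) '' T) := by
  classical
  have hloc : ∀ q : PrimeSpectrum A, ∃ r : A, r ∉ q.asIdeal ∧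
      IsNowhereDense (PrimeSpectrum.comap (algebraMap R A) ''
        (T ∩ (PrimeSpectrum.basicOpen r : Set (PrimeSpectrum A)))) := by
    intro q
    haveI := q.2
    obtain ⟨S', hS', r, hrq, hbij⟩ :=
      Algebra.QuasiFiniteAt.exists_fg_and_exists_notMem_and_awayMap_bijective (R := R) q.asIdeal
    haveI : Module.Finite R S' := ⟨(Submodule.fg_top _).mpr hS'⟩
    refine ⟨r.1, hrq, ?_⟩
    let B := Localization.Away r.1
    let B' := Localization.Away r
    let e : B' ≃+* B := RingEquiv.ofBijective (Localization.awayMap S'.val.toRingHom r) hbij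
    let TB : Set (PrimeSpectrum B) := PrimeSpectrum.comap (algebraMap A B) ⁻¹' T
    have hoe := PrimeSpectrum.localization_away_isOpenEmbedding B r.1
    have hTB : IsNowhereDense TB :=
      isNowhereDense_preimage hoe.continuous hoe.isOpenMap hT
    have h1 : T ∩ (PrimeSpectrum.basicOpen r.1 : Set (PrimeSpectrum A)) =
        PrimeSpectrum.comap (algebraMap A B) '' TB := by
      rw [Set.image_preimage_eq_inter_range, PrimeSpectrum.localization_away_comap_range B r.1]
    have hTB' : IsNowhereDense (PrimeSpectrum.comap (e : B' →+* B) '' TB) :=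
      (PrimeSpectrum.homeomorphOfRingEquiv e).symm.isInducing.isNowhereDense_image hTB
    have hoe' := PrimeSpectrum.localization_away_isOpenEmbedding B' r
    have hTS' : IsNowhereDense (PrimeSpectrum.comap (algebraMap S' B') ''
        (PrimeSpectrum.comap (e : B' →+* B) '' TB)) :=
      hoe'.isInducing.isNowhereDense_image hTB'
    have hfin := isNowhereDense_image_comap_of_finite (R := R) _ hTS'
    have hcomp : (algebraMap A B).comp (algebraMap R A) =
        ((e : B' →+* B).comp (algebraMap S' B')).comp (algebraMap R S') := by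
      ext t
      simp only [RingHom.comp_apply]
      show _ = Localization.awayMap S'.val.toRingHom r (algebraMap S' B' (algebraMap R S' t))
      rw [Localization.awayMap, IsLocalization.Away.map, IsLocalization.map_eq]
      rfl
    rw [h1, ← Set.image_comp]
    rw [← Set.image_comp, ← Set.image_comp] at hfin
    convert hfin using 2
    simp only [Function.comp_apply]
    rw [← PrimeSpectrum.comap_comp_apply, ← PrimeSpectrum.comap_comp_apply,
      ← PrimeSpectrum.comap_comp_apply, hcomp, RingHom.comp_assoc]
  choose r hr hnd using hloc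
  have hcov : (Set.univ : Set (PrimeSpectrum A)) ⊆
      ⋃ q, (PrimeSpectrum.basicOpen (r q) : Set (PrimeSpectrum A)) := fun q _ =>
    Set.mem_iUnion.2 ⟨q, hr q⟩
  obtain ⟨F, hF⟩ := isCompact_univ.elim_finite_subcover
    (fun q => (PrimeSpectrum.basicOpen (r q) : Set (PrimeSpectrum A)))
    (fun q => (PrimeSpectrum.basicOpen (r q)).2) hcov
  have hTeq : PrimeSpectrum.comap (algebraMap R A) '' T ⊆
      ⋃ q ∈ F, PrimeSpectrum.comap (algebraMap R A) ''
        (T ∩ (PrimeSpectrum.basicOpen (r q) : Set (PrimeSpectrum A))) := by
    rintro _ ⟨P, hP, rfl⟩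
    obtain ⟨q, hqF, hPq⟩ := Set.mem_iUnion₂.1 (hF (Set.mem_univ P))
    exact Set.mem_iUnion₂.2 ⟨q, hqF, P, ⟨hP, hPq⟩, rfl⟩
  exact (isNowhereDense_biUnion_finset F _ fun q _ => hnd q).mono hTeq

end Groth.Agent.Helper19.QfND
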