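import Mathlib
import Groth.Agent.Lib.Helper19.QfND.Spec

/-!
# Quasi-finite morphisms of schemes send nowhere dense sets to nowhere dense sets
-/

set_option autoImplicit false

universe u

namespace Groth.Agent.Helper19.QfND

open AlgebraicGeometry CategoryTheory

/-- Affine-local piece. -/
theorem isNowhereDense_image_inter_affine {Y X : Scheme.{u}} (f : Y ⟶ X) [LocallyQuasiFinite f]
    [LocallyOfFiniteType f] {U : X.Opens} (hU : IsAffineOpen U) {V : Y.Opens}
    (hV : IsAffineOpen V) (e : V ≤ f ⁻¹ᵁ U) (T : Set ↑Y) (hT : IsNowhereDense T) :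
    IsNowhereDense (f '' (T ∩ (V : Set Y))) := by
  have hft : (f.appLE U V e).hom.FiniteType := f.finiteType_appLE hU hV e
  have hqf : (f.appLE U V e).hom.QuasiFinite := LocallyQuasiFinite.quasiFinite_appLE hU hV e
  have hsq := IsAffineOpen.SpecMap_appLE_fromSpec f hU hV e
  let TV : Set ↑(Spec Γ(Y, V)) := hV.fromSpec ⁻¹' T
  have hTV : IsNowhereDense TV :=
    isNowhereDense_preimage hV.fromSpec.continuous hV.fromSpec.isOpenEmbedding.isOpenMap hT
  have h1 : T ∩ (V : Set Y) = hV.fromSpec '' TV := by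
    rw [Set.image_preimage_eq_inter_range, hV.range_fromSpec]
  have h2 : IsNowhereDense ((Spec.map (f.appLE U V e)) '' TV) := by
    algebraize [(f.appLE U V e).hom]
    exact isNowhereDense_image_comap_of_quasiFinite (R := Γ(X, U)) (A := Γ(Y, V)) TV hTV
  have h3 : IsNowhereDense (hU.fromSpec '' ((Spec.map (f.appLE U V e)) '' TV)) :=
    hU.fromSpec.isOpenEmbedding.isInducing.isNowhereDense_image h2
  have h4 : f '' (T ∩ (V : Set Y)) = hU.fromSpec '' ((Spec.map (f.appLE U V e)) '' TV) := by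
    rw [h1, ← Set.image_comp, ← Set.image_comp]
    refine Set.image_congr fun z _ => ?_
    simp only [Function.comp_apply]
    rw [← Scheme.Hom.comp_apply, ← Scheme.Hom.comp_apply, hsq]
  rw [h4]; exact h3

/-- Quasi-finite quasi-compact morphisms locally of finite type send nowhere dense sets to nowhere
dense sets. -/
theorem isNowhereDense_image_of_quasiFinite {Y X : Scheme.{u}} (f : Y ⟶ X) [LocallyQuasiFinite f]
    [LocallyOfFiniteType f] [QuasiCompact f] (T : Set ↑Y) (hT : IsNowhereDense T) :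
    IsNowhereDense (f '' T) := by
  classical
  refine isNowhereDense_of_forall_exists_nhds fun x => ?_
  obtain ⟨_, ⟨U, hU, rfl⟩, hxU, -⟩ :=
    X.isBasis_affineOpens.exists_subset_of_mem_open (Set.mem_univ x) isOpen_univ
  refine ⟨U, U.2, hxU, ?_⟩
  have hcomp : IsCompact ((f ⁻¹ᵁ U : Y.Opens) : Set Y) :=
    QuasiCompact.isCompact_preimage (f := f) _ U.2 hU.isCompact
  have hcov : ∀ y : (f ⁻¹ᵁ U : Y.Opens), ∃ V : Y.Opens, IsAffineOpen V ∧ (y : Y) ∈ V ∧
      V ≤ f ⁻¹ᵁ U := by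
    rintro ⟨y, hy⟩
    obtain ⟨_, ⟨V, hV, rfl⟩, hyV, hVU⟩ :=
      Y.isBasis_affineOpens.exists_subset_of_mem_open hy (f ⁻¹ᵁ U).2
    exact ⟨V, hV, hyV, hVU⟩
  choose V hV hyV hVU using hcov
  obtain ⟨F, hF⟩ := hcomp.elim_finite_subcover (fun y => ((V y : Y.Opens) : Set Y))
    (fun y => (V y).2) (fun y hy => Set.mem_iUnion.2 ⟨⟨y, hy⟩, hyV _⟩)
  have hsub : f '' T ∩ (U : Set X) ⊆ ⋃ y ∈ F, f '' (T ∩ ((V y : Y.Opens) : Set Y)) := by
    rintro _ ⟨⟨t, ht, rfl⟩, htU⟩
    obtain ⟨y, hyF, hty⟩ := Set.mem_iUnion₂.1 (hF (show t ∈ ((f ⁻¹ᵁ U : Y.Opens) : Set Y) from htU))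
    exact Set.mem_iUnion₂.2 ⟨y, hyF, t, ⟨ht, hty⟩, rfl⟩
  exact (isNowhereDense_biUnion_finset F _ fun y _ =>
    isNowhereDense_image_inter_affine f hU (hV y) (hVU y) T hT).mono hsub

end Groth.Agent.Helper19.QfND
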