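import Mathlib
import Groth.Agent.Lib.Helper19.QfND.Sch

/-!
# Gluing lemmas for "finite over a dense open"
-/

set_option autoImplicit false

universe u

namespace Groth.Agent.Helper19.QfND

open AlgebraicGeometry CategoryTheory Limits

/-- transport along an equality of morphisms -/
theorem isFinite_restrict_congr {Y X : Scheme.{u}} {f f' : Y ⟶ X} (h : f = f') (U : X.Opens)
    (hf : IsFinite (f ∣_ U)) : IsFinite (f' ∣_ U) := by
  subst h; exact hf

/-- restriction to a smaller open -/
theorem isFinite_restrict_of_le {Y X : Scheme.{u}} (f : Y ⟶ X) {U V : X.Opens}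
    (hf : IsFinite (f ∣_ U)) (hVU : V ≤ U) : IsFinite (f ∣_ V) := by
  have h1 : IsFinite (f ∣_ U ∣_ (U.ι ⁻¹ᵁ V)) := IsZariskiLocalAtTarget.restrict hf _
  have h2 : U.ι ''ᵁ (U.ι ⁻¹ᵁ V) = V := by
    rw [Scheme.Hom.image_preimage_eq_opensRange_inf, Scheme.Opens.opensRange_ι]
    exact inf_eq_right.2 hVU
  have e := morphismRestrictRestrict f U (U.ι ⁻¹ᵁ V) ≪≫ morphismRestrictEq f h2
  exact (MorphismProperty.arrow_mk_iso_iff @IsFinite e).1 h1

/-- the frontier of an open set is nowhere dense -/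
theorem isNowhereDense_frontier_of_isOpen {X : Type*} [TopologicalSpace X] {A : Set X}
    (hA : IsOpen A) : IsNowhereDense (frontier A) := by
  rw [isClosed_frontier.isNowhereDense_iff, ← frontier_compl]
  exact interior_frontier hA.isClosed_compl

/-- gluing along a clopen decomposition of the source -/
theorem isFinite_of_isCompl {P Q Y X : Scheme.{u}} (g : Y ⟶ X) (jP : P ⟶ Y) (jQ : Q ⟶ Y)
    [IsOpenImmersion jP] [IsOpenImmersion jQ] (hc : IsCompl jP.opensRange jQ.opensRange)
    (hP : IsFinite (jP ≫ g)) (hQ : IsFinite (jQ ≫ g)) : IsFinite g := by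
  obtain ⟨H⟩ := nonempty_isColimit_binaryCofanMk_of_isCompl jP jQ hc
  let e : P ⨿ Q ≅ Y := (colimit.isColimit _).coconePointUniqueUpToIso H
  have he : e.hom = coprod.desc jP jQ := by
    apply coprod.hom_ext
    · have := (colimit.isColimit (pair P Q)).comp_coconePointUniqueUpToIso_hom H
        ⟨WalkingPair.left⟩
      rw [coprod.inl_desc]
      exact this
    · have := (colimit.isColimit (pair P Q)).comp_coconePointUniqueUpToIso_hom H
        ⟨WalkingPair.right⟩
      rw [coprod.inr_desc]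
      exact this
  have h1 : IsFinite (coprod.desc (jP ≫ g) (jQ ≫ g)) := inferInstance
  have h2 : coprod.desc (jP ≫ g) (jQ ≫ g) = e.hom ≫ g := by
    rw [he]
    apply coprod.hom_ext <;> simp
  rw [h2] at h1
  exact (MorphismProperty.cancel_left_of_respectsIso @IsFinite e.hom g).1 h1

end Groth.Agent.Helper19.QfND

namespace Groth.Agent.Helper19.QfND

open AlgebraicGeometry CategoryTheory Limits

/-- gluing two open pieces, one of which is also closed -/
theorem isFinite_of_cover_of_isClosed_range {PA PB Y X : Scheme.{u}} (g : Y ⟶ X) (jA : PA ⟶ Y)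
    (jB : PB ⟶ Y) [IsOpenImmersion jA] [IsOpenImmersion jB]
    (hcov : Set.range jA ∪ Set.range jB = Set.univ)
    (hcl : IsClosed (Set.range jA)) (hA : IsFinite (jA ≫ g)) (hB : IsFinite (jB ≫ g)) :
    IsFinite g := by
  let C : Y.Opens := ⟨(Set.range jA)ᶜ, hcl.isOpen_compl⟩
  have hCcl : IsClosed (C : Set Y) := jA.isOpenEmbedding.isOpen_range.isClosed_compl
  have hCB : Set.range C.ι ⊆ Set.range jB := by
    rw [Scheme.Opens.range_ι]
    intro y hy
    rcases hcov.ge (Set.mem_univ y) with h | h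
    · exact absurd h hy
    · exact h
  let k : C.toScheme ⟶ PB := IsOpenImmersion.lift jB C.ι hCB
  have hk : k ≫ jB = C.ι := IsOpenImmersion.lift_fac _ _ _
  haveI : IsOpenImmersion k := by
    haveI : IsOpenImmersion (k ≫ jB) := by rw [hk]; infer_instance
    exact IsOpenImmersion.of_comp k jB
  have hkr : Set.range k = jB ⁻¹' (C : Set Y) := by
    ext z
    constructor
    · rintro ⟨c, rfl⟩
      show jB (k c) ∈ (C : Set Y)
      rw [← Scheme.Hom.comp_apply, hk]
      exact c.2
    · intro hz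
      refine ⟨⟨jB z, hz⟩, jB.isOpenEmbedding.injective ?_⟩
      rw [← Scheme.Hom.comp_apply, hk]
      rfl
  have hkcl : IsClosed (Set.range k) := by
    rw [hkr]; exact hCcl.preimage jB.continuous
  haveI : IsClosedImmersion k := .of_isPreimmersion _ hkcl
  have hCfin : IsFinite (C.ι ≫ g) := by
    rw [← hk, Category.assoc]
    infer_instance
  have hcompl : IsCompl jA.opensRange C.ι.opensRange := by
    rw [Scheme.Opens.opensRange_ι]
    constructor
    · rw [disjoint_iff]
      ext y
      simp [C, Scheme.Hom.opensRange]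
    · rw [codisjoint_iff]
      ext y
      simp [C, Scheme.Hom.opensRange]
  exact isFinite_of_isCompl g jA C.ι hcompl hA hCfin

end Groth.Agent.Helper19.QfND

namespace Groth.Agent.Helper19.QfND

open AlgebraicGeometry CategoryTheory Limits

theorem range_morphismRestrict {X Y : Scheme.{u}} (f : X ⟶ Y) (U : Y.Opens) :
    Set.range (f ∣_ U) = ((Subtype.val : U → Y) ⁻¹' Set.range f) := by
  ext y
  constructor
  · rintro ⟨x, rfl⟩
    exact ⟨x.1, (morphismRestrict_base_coe f U x).symm⟩
  · rintro ⟨x, hx⟩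
    have hxU : x ∈ f ⁻¹ᵁ U := by
      show f x ∈ U
      rw [hx]; exact y.2
    exact ⟨⟨x, hxU⟩, Subtype.ext ((morphismRestrict_base_coe f U _).trans hx)⟩

theorem isClosed_range_morphismRestrict {P' P : Scheme.{u}} (j : P' ⟶ P) [IsOpenImmersion j]
    (W : P.Opens) (hW : ∀ y ∈ W, y ∉ frontier (Set.range j)) :
    IsClosed (Set.range (j ∣_ W)) := by
  rw [range_morphismRestrict]
  have hA : IsOpen (Set.range j) := j.isOpenEmbedding.isOpen_range
  have hcl2 : IsClosed ((Subtype.val : W → P) ⁻¹' closure (Set.range j)) :=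
    isClosed_closure.preimage continuous_subtype_val
  have heq : ((Subtype.val : W → P) ⁻¹' Set.range j) =
      (Subtype.val : W → P) ⁻¹' closure (Set.range j) := by
    ext ⟨y, hy⟩
    constructor
    · exact fun hyA => subset_closure hyA
    · intro hyc
      by_contra hyA
      exact hW y hy ⟨hyc, by rwa [hA.interior_eq]⟩
  have : IsClosed ((Subtype.val : W → P) ⁻¹' Set.range j) := heq ▸ hcl2
  exact this

/-- An open subscheme of a finite `X`-scheme is finite over a dense open of `X`. -/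
theorem exists_dense_isFinite_of_openImmersion_comp_finite {P' P X : Scheme.{u}} (j : P' ⟶ P)
    [IsOpenImmersion j] (h : P ⟶ X) [IsFinite h] :
    ∃ U : X.Opens, Dense (U : Set X) ∧ IsFinite ((j ≫ h) ∣_ U) := by
  let A : Set P := Set.range j
  have hA : IsOpen A := j.isOpenEmbedding.isOpen_range
  let T : Set X := h '' frontier A
  have hTcl : IsClosed T := h.isClosedMap _ isClosed_frontier
  have hTnd : IsNowhereDense T :=
    isNowhereDense_image_of_quasiFinite h _ (isNowhereDense_frontier_of_isOpen hA)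
  let U : X.Opens := ⟨Tᶜ, hTcl.isOpen_compl⟩
  have hUd : Dense (U : Set X) := (isClosed_isNowhereDense_iff_compl.1 ⟨hTcl, hTnd⟩).2
  refine ⟨U, hUd, ?_⟩
  rw [morphismRestrict_comp]
  haveI : IsFinite (h ∣_ U) := IsZariskiLocalAtTarget.restrict ‹_› U
  have hr : IsClosed (Set.range (j ∣_ (h ⁻¹ᵁ U))) :=
    isClosed_range_morphismRestrict j _ fun y hy hyf => hy ⟨y, hyf, rfl⟩
  haveI : IsClosedImmersion (j ∣_ (h ⁻¹ᵁ U)) := .of_isPreimmersion _ hr
  haveI : IsFinite (j ∣_ (h ⁻¹ᵁ U)) := inferInstance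
  exact MorphismProperty.comp_mem @IsFinite _ _ ‹IsFinite (j ∣_ (h ⁻¹ᵁ U))› ‹IsFinite (h ∣_ U)›

/-- Gluing two open pieces which are finite over dense opens. -/
theorem exists_dense_isFinite_glue {PA PB Y X : Scheme.{u}} (f : Y ⟶ X) [LocallyQuasiFinite f]
    [LocallyOfFiniteType f] [QuasiCompact f] (jA : PA ⟶ Y) (jB : PB ⟶ Y) [IsOpenImmersion jA]
    [IsOpenImmersion jB] (hcov : Set.range jA ∪ Set.range jB = Set.univ)
    (UA UB : X.Opens) (hUA : Dense (UA : Set X)) (hUB : Dense (UB : Set X))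
    (hA : IsFinite ((jA ≫ f) ∣_ UA)) (hB : IsFinite ((jB ≫ f) ∣_ UB)) :
    ∃ U : X.Opens, Dense (U : Set X) ∧ IsFinite (f ∣_ U) := by
  let A : Set Y := Set.range jA
  have hAo : IsOpen A := jA.isOpenEmbedding.isOpen_range
  let T : Set X := closure (f '' frontier A)
  have hTnd : IsNowhereDense T :=
    (isNowhereDense_image_of_quasiFinite f _ (isNowhereDense_frontier_of_isOpen hAo)).closure
  let U₀ : X.Opens := ⟨Tᶜ, isClosed_closure.isOpen_compl⟩
  have hU₀d : Dense (U₀ : Set X) :=
    (isClosed_isNowhereDense_iff_compl.1 ⟨isClosed_closure, hTnd⟩).2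
  let U : X.Opens := UA ⊓ UB ⊓ U₀
  have hUd : Dense (U : Set X) := by
    show Dense (((UA : Set X) ∩ UB) ∩ U₀)
    exact (hUA.inter_of_isOpen_left hUB UA.2).inter_of_isOpen_left hU₀d (UA.2.inter UB.2)
  refine ⟨U, hUd, ?_⟩
  have hA' : IsFinite ((jA ≫ f) ∣_ U) :=
    isFinite_restrict_of_le _ hA (inf_le_left.trans inf_le_left)
  have hB' : IsFinite ((jB ≫ f) ∣_ U) :=
    isFinite_restrict_of_le _ hB (inf_le_left.trans inf_le_right)
  rw [morphismRestrict_comp] at hA' hB'
  refine isFinite_of_cover_of_isClosed_range (f ∣_ U) (jA ∣_ (f ⁻¹ᵁ U)) (jB ∣_ (f ⁻¹ᵁ U))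
    ?_ ?_ hA' hB'
  · rw [range_morphismRestrict, range_morphismRestrict]
    ext ⟨y, hy⟩
    simp only [Set.mem_union, Set.mem_preimage, Set.mem_univ, iff_true]
    exact hcov.ge (Set.mem_univ y)
  · refine isClosed_range_morphismRestrict jA _ fun y hy hyf => ?_
    have hyU₀ : f y ∈ (U₀ : Set X) := hy.2
    exact hyU₀ (subset_closure ⟨y, hyf, rfl⟩)

end Groth.Agent.Helper19.QfND
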