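import Mathlib
import Groth.Agent.Lib.Helper19.QfND.Fin

/-!
# Finite covers by pieces finite over dense opens
-/

set_option autoImplicit false

universe u

namespace Groth.Agent.Helper19.QfND

open AlgebraicGeometry CategoryTheory Limits

/-- morphisms from a compact scheme to an affine scheme are quasi-compact -/
theorem quasiCompact_of_compactSpace {Y X : Scheme.{u}} [IsAffine X] (f : Y ⟶ X) [CompactSpace Y] :
    QuasiCompact f :=
  (HasAffineProperty.iff_of_isAffine (P := @QuasiCompact)).2 ‹_›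

theorem isFinite_of_isEmpty {Y X : Scheme.{u}} (f : Y ⟶ X) [IsEmpty Y] : IsFinite f :=
  inferInstance

/-- One gluing step. -/
theorem glue_step {Y X : Scheme.{u}} [IsAffine X] (f : Y ⟶ X) [LocallyQuasiFinite f]
    [LocallyOfFiniteType f] (W : Y.Opens) (hWc : IsCompact (W : Set Y)) {P : Scheme.{u}}
    (j : P ⟶ Y) [IsOpenImmersion j] [CompactSpace P]
    (hW : ∃ U : X.Opens, Dense (U : Set X) ∧ IsFinite ((W.ι ≫ f) ∣_ U))
    (hP : ∃ U : X.Opens, Dense (U : Set X) ∧ IsFinite ((j ≫ f) ∣_ U)) :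
    ∃ U : X.Opens, Dense (U : Set X) ∧ IsFinite (((W ⊔ j.opensRange).ι ≫ f) ∣_ U) := by
  obtain ⟨UA, hUA, hA⟩ := hW
  obtain ⟨UB, hUB, hB⟩ := hP
  set W' : Y.Opens := W ⊔ j.opensRange with hW'
  have hW'c : IsCompact (W' : Set Y) := by
    have : (W' : Set Y) = (W : Set Y) ∪ Set.range j := by
      rw [hW']; rfl
    rw [this]
    exact hWc.union (isCompact_range j.continuous)
  haveI : CompactSpace W' := isCompact_iff_compactSpace.1 hW'c
  haveI : CompactSpace ↥W'.toScheme := ‹CompactSpace W'›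
  haveI : QuasiCompact (W'.ι ≫ f) := quasiCompact_of_compactSpace _
  let jA : W.toScheme ⟶ W'.toScheme := Y.homOfLE le_sup_left
  have hjB : Set.range j ⊆ Set.range W'.ι := by
    rw [Scheme.Opens.range_ι]
    exact fun y hy => Or.inr hy
  let jB : P ⟶ W'.toScheme := IsOpenImmersion.lift W'.ι j hjB
  have hjBfac : jB ≫ W'.ι = j := IsOpenImmersion.lift_fac _ _ _
  haveI : IsOpenImmersion jB := by
    haveI : IsOpenImmersion (jB ≫ W'.ι) := by rw [hjBfac]; infer_instance
    exact IsOpenImmersion.of_comp jB W'.ι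
  have hAeq : W.ι ≫ f = jA ≫ W'.ι ≫ f := by
    rw [← Category.assoc, Scheme.homOfLE_ι]
  have hBeq : j ≫ f = jB ≫ W'.ι ≫ f := by
    rw [← Category.assoc, hjBfac]
  have hA' := isFinite_restrict_congr hAeq UA hA
  have hB' := isFinite_restrict_congr hBeq UB hB
  refine exists_dense_isFinite_glue (W'.ι ≫ f) jA jB ?_ UA UB hUA hUB hA' hB'
  ext ⟨y, hy⟩
  simp only [Set.mem_union, Set.mem_range, Set.mem_univ, iff_true]
  rcases hy with hy | hy
  · left
    refine ⟨⟨y, hy⟩, ?_⟩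
    apply W'.ι.isOpenEmbedding.injective
    rw [← Scheme.Hom.comp_apply, Scheme.homOfLE_ι]
    rfl
  · right
    obtain ⟨p, rfl⟩ := hy
    refine ⟨p, ?_⟩
    apply W'.ι.isOpenEmbedding.injective
    rw [← Scheme.Hom.comp_apply, hjBfac]
    rfl

end Groth.Agent.Helper19.QfND

namespace Groth.Agent.Helper19.QfND

open AlgebraicGeometry CategoryTheory Limits

theorem isFinite_restrict_of_top {Y X : Scheme.{u}} (f : Y ⟶ X) (U : X.Opens) :
    ∀ W : Y.Opens, W = ⊤ → IsFinite ((W.ι ≫ f) ∣_ U) → IsFinite (f ∣_ U) := by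
  rintro _ rfl h
  rw [morphismRestrict_comp] at h
  haveI h0 : IsIso (⊤ : Y.Opens).ι := inferInstanceAs (IsIso Y.topIso.hom)
  haveI h1 : IsIso ((⊤ : Y.Opens).ι ∣_ (f ⁻¹ᵁ U)) := inferInstance
  exact (MorphismProperty.cancel_left_of_respectsIso @IsFinite
    ((⊤ : Y.Opens).ι ∣_ (f ⁻¹ᵁ U)) (f ∣_ U)).1 h

/-- A finite cover by compact open pieces, each finite over a dense open of the affine base. -/
theorem exists_dense_isFinite_of_finite_cover {Y X : Scheme.{u}} [IsAffine X] (f : Y ⟶ X)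
    [LocallyQuasiFinite f] [LocallyOfFiniteType f] {ι : Type*} (s : Finset ι)
    (P : ι → Scheme.{u}) (j : ∀ i, P i ⟶ Y) [∀ i, IsOpenImmersion (j i)]
    [∀ i, CompactSpace (P i)] (hcov : ∀ y : Y, ∃ i ∈ s, y ∈ Set.range (j i))
    (h : ∀ i ∈ s, ∃ U : X.Opens, Dense (U : Set X) ∧ IsFinite ((j i ≫ f) ∣_ U)) :
    ∃ U : X.Opens, Dense (U : Set X) ∧ IsFinite (f ∣_ U) := by
  classical
  have key : ∀ t : Finset ι, t ⊆ s → ∃ W : Y.Opens, (W : Set Y) = ⋃ i ∈ t, Set.range (j i) ∧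
      IsCompact (W : Set Y) ∧
      ∃ U : X.Opens, Dense (U : Set X) ∧ IsFinite ((W.ι ≫ f) ∣_ U) := by
    intro t
    induction t using Finset.induction_on with
    | empty =>
      intro _
      refine ⟨⊥, by simp, by simp, ⊤, by simp, ?_⟩
      haveI : IsEmpty ↥(((⊥ : Y.Opens).ι ≫ f) ⁻¹ᵁ (⊤ : X.Opens)).toScheme :=
        ⟨fun x => (x.1 : ↥(⊥ : Y.Opens)).2.elim⟩
      exact isFinite_of_isEmpty _
    | insert i t hi ih =>
      intro hts
      obtain ⟨W, hWeq, hWc, hW⟩ := ih ((Finset.subset_insert i t).trans hts)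
      refine ⟨W ⊔ (j i).opensRange, ?_, ?_,
        glue_step f W hWc (j i) hW (h i (hts (Finset.mem_insert_self i t)))⟩
      · rw [Finset.set_biUnion_insert, ← hWeq, Set.union_comm]
        rfl
      · have : ((W ⊔ (j i).opensRange : Y.Opens) : Set Y) = (W : Set Y) ∪ Set.range (j i) := rfl
        rw [this]
        exact hWc.union (isCompact_range (j i).continuous)
  obtain ⟨W, hWeq, -, U, hU, hfin⟩ := key s subset_rfl
  have hWtop : W = ⊤ := by
    apply SetLike.coe_injective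
    rw [hWeq]
    ext y
    simp only [Set.mem_iUnion, TopologicalSpace.Opens.coe_top, Set.mem_univ, iff_true]
    obtain ⟨i, hi, hy⟩ := hcov y
    exact ⟨i, hi, hy⟩
  exact ⟨U, hU, isFinite_restrict_of_top f U W hWtop hfin⟩

end Groth.Agent.Helper19.QfND
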