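import Mathlib
import Groth.Agent.Lib.Helper19.QfND.Cover

/-!
# Quasi-finite maps of affine schemes are finite over a dense open
-/

set_option autoImplicit false

universe u

namespace Groth.Agent.Helper19.QfND

open AlgebraicGeometry CategoryTheory Limits

/-- Spec-level statement. -/
theorem exists_dense_isFinite_SpecMap {R A : CommRingCat.{u}} (φ : R ⟶ A)
    (hft : φ.hom.FiniteType) (hqf : φ.hom.QuasiFinite) :
    ∃ U : (Spec R).Opens, Dense (U : Set (Spec R)) ∧ IsFinite (Spec.map φ ∣_ U) := by
  classical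
  algebraize [φ.hom]
  haveI : LocallyQuasiFinite (Spec.map φ) :=
    (HasRingHomProperty.Spec_iff (P := @LocallyQuasiFinite)).2 hqf
  haveI : LocallyOfFiniteType (Spec.map φ) :=
    (HasRingHomProperty.Spec_iff (P := @LocallyOfFiniteType)).2 hft
  -- local structure from Zariski's main theorem
  have hloc : ∀ q : PrimeSpectrum A, ∃ r : A, r ∉ q.asIdeal ∧
      ∃ U : (Spec R).Opens, Dense (U : Set (Spec R)) ∧
        IsFinite ((Spec.map (CommRingCat.ofHom (algebraMap A (Localization.Away r))) ≫
          Spec.map φ) ∣_ U) := by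
    intro q
    haveI := q.2
    obtain ⟨S', hS', r, hrq, hbij⟩ :=
      Algebra.QuasiFiniteAt.exists_fg_and_exists_notMem_and_awayMap_bijective (R := R) q.asIdeal
    haveI : Module.Finite R S' := ⟨(Submodule.fg_top _).mpr hS'⟩
    refine ⟨r.1, hrq, ?_⟩
    let B := Localization.Away r.1
    let B' := Localization.Away r
    let e : B' ≃+* B := RingEquiv.ofBijective (Localization.awayMap S'.val.toRingHom r) hbij
    let ψ₁ : R ⟶ CommRingCat.of S' := CommRingCat.ofHom (algebraMap R S')
    let ψ₂ : CommRingCat.of S' ⟶ CommRingCat.of B' := CommRingCat.ofHom (algebraMap S' B')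
    let ψ₃ : CommRingCat.of B' ⟶ CommRingCat.of B := CommRingCat.ofHom (e : B' →+* B)
    haveI : IsIso ψ₃ := by
      have : ψ₃ = e.toCommRingCatIso.hom := rfl
      rw [this]; infer_instance
    haveI : IsFinite (Spec.map ψ₁) := by
      rw [IsFinite.SpecMap_iff]
      exact RingHom.finite_algebraMap.mpr inferInstance
    haveI : IsOpenImmersion (Spec.map ψ₂) := inferInstanceAs
      (IsOpenImmersion (Spec.map (CommRingCat.ofHom (algebraMap S' (Localization.Away r)))))
    obtain ⟨U, hU, hfin⟩ :=
      exists_dense_isFinite_of_openImmersion_comp_finite (Spec.map ψ₃ ≫ Spec.map ψ₂) (Spec.map ψ₁)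
    refine ⟨U, hU, isFinite_restrict_congr ?_ U hfin⟩
    rw [Category.assoc, ← Spec.map_comp, ← Spec.map_comp, ← Spec.map_comp]
    congr 1
    ext t
    show e (algebraMap S' B' (algebraMap R S' t)) = algebraMap A B (φ.hom t)
    show Localization.awayMap S'.val.toRingHom r (algebraMap S' B' (algebraMap R S' t)) = _
    rw [Localization.awayMap, IsLocalization.Away.map, IsLocalization.map_eq]
    rfl
  choose r hr Uq hUq hfin using hloc
  have hcov : (Set.univ : Set (PrimeSpectrum A)) ⊆
      ⋃ q, (PrimeSpectrum.basicOpen (r q) : Set (PrimeSpectrum A)) := fun q _ =>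
    Set.mem_iUnion.2 ⟨q, hr q⟩
  obtain ⟨F, hF⟩ := isCompact_univ.elim_finite_subcover
    (fun q => (PrimeSpectrum.basicOpen (r q) : Set (PrimeSpectrum A)))
    (fun q => (PrimeSpectrum.basicOpen (r q)).2) hcov
  refine exists_dense_isFinite_of_finite_cover (Spec.map φ) F
    (fun q => Spec (CommRingCat.of (Localization.Away (r q))))
    (fun q => Spec.map (CommRingCat.ofHom (algebraMap A (Localization.Away (r q))))) ?_
    (fun q _ => ⟨Uq q, hUq q, hfin q⟩)
  intro y
  obtain ⟨q, hqF, hyq⟩ := Set.mem_iUnion₂.1 (hF (Set.mem_univ y))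
  refine ⟨q, hqF, ?_⟩
  have := PrimeSpectrum.localization_away_comap_range (Localization.Away (r q)) (r q)
  rw [← this] at hyq
  exact hyq

end Groth.Agent.Helper19.QfND
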