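import Mathlib
import Groth.Agent.Lib.Helper19.QfND.SpecFin

/-!
# Quasi-finite morphisms are finite over a dense open of the target
-/

set_option autoImplicit false

universe u

namespace Groth.Agent.Helper19.QfND

open AlgebraicGeometry CategoryTheory Limits

theorem isFinite_restrict_iso_comp {Y' Y X X' : Scheme.{u}} (a : Y' ⟶ Y) [IsIso a] (g : Y ⟶ X)
    (b : X ⟶ X') [IsIso b] (U' : X'.Opens) (h : IsFinite (g ∣_ (b ⁻¹ᵁ U'))) :
    IsFinite ((a ≫ g ≫ b) ∣_ U') := by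
  rw [morphismRestrict_comp, morphismRestrict_comp]
  haveI h1 : IsIso (b ∣_ U') := inferInstance
  haveI h2 : IsIso (a ∣_ ((g ≫ b) ⁻¹ᵁ U')) := inferInstance
  refine (MorphismProperty.cancel_left_of_respectsIso @IsFinite
    (a ∣_ ((g ≫ b) ⁻¹ᵁ U')) (g ∣_ (b ⁻¹ᵁ U') ≫ b ∣_ U')).2 ?_
  exact (MorphismProperty.cancel_right_of_respectsIso @IsFinite (g ∣_ (b ⁻¹ᵁ U')) (b ∣_ U')).2 h

theorem isFinite_restrict_opens_congr {Y X : Scheme.{u}} (g : Y ⟶ X) {U U' : X.Opens}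
    (h : U = U') (hf : IsFinite (g ∣_ U)) : IsFinite (g ∣_ U') := by
  subst h; exact hf

/-- An affine open piece of the source over an affine base. -/
theorem exists_dense_isFinite_affine_piece {Y X : Scheme.{u}} [IsAffine X] (f : Y ⟶ X)
    [LocallyQuasiFinite f] [LocallyOfFiniteType f] {V : Y.Opens} (hV : IsAffineOpen V) :
    ∃ U : X.Opens, Dense (U : Set X) ∧ IsFinite ((V.ι ≫ f) ∣_ U) := by
  have hX : IsAffineOpen (⊤ : X.Opens) := isAffineOpen_top X
  have e : V ≤ f ⁻¹ᵁ (⊤ : X.Opens) := le_top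
  have hft : (f.appLE ⊤ V e).hom.FiniteType := f.finiteType_appLE hX hV e
  have hqf : (f.appLE ⊤ V e).hom.QuasiFinite := LocallyQuasiFinite.quasiFinite_appLE hX hV e
  obtain ⟨U₀, hU₀, hfin⟩ := exists_dense_isFinite_SpecMap (f.appLE ⊤ V e) hft hqf
  have hsq := IsAffineOpen.SpecMap_appLE_fromSpec f hX hV e
  rw [IsAffineOpen.fromSpec_top] at hsq
  have hVf : V.ι ≫ f = hV.isoSpec.hom ≫ Spec.map (f.appLE ⊤ V e) ≫ X.isoSpec.inv := by
    rw [hsq, ← hV.isoSpec_inv_ι, Category.assoc, Iso.hom_inv_id_assoc]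
  let U : X.Opens := X.isoSpec.hom ⁻¹ᵁ U₀
  have hUd : Dense (U : Set X) := hU₀.preimage X.isoSpec.hom.isOpenEmbedding.isOpenMap
  refine ⟨U, hUd, ?_⟩
  refine isFinite_restrict_congr hVf.symm U ?_
  refine isFinite_restrict_iso_comp _ _ _ U ?_
  have hUU : U₀ = X.isoSpec.inv ⁻¹ᵁ U := by
    show U₀ = X.isoSpec.inv ⁻¹ᵁ (X.isoSpec.hom ⁻¹ᵁ U₀)
    rw [← Scheme.Hom.comp_preimage, Iso.inv_hom_id, Scheme.Hom.id_preimage]
  exact isFinite_restrict_opens_congr _ hUU hfin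

/-- Affine base. -/
theorem exists_dense_isFinite_of_isAffine {Y X : Scheme.{u}} [IsAffine X] (f : Y ⟶ X)
    [LocallyQuasiFinite f] [LocallyOfFiniteType f] [QuasiCompact f] :
    ∃ U : X.Opens, Dense (U : Set X) ∧ IsFinite (f ∣_ U) := by
  classical
  haveI : CompactSpace Y := (HasAffineProperty.iff_of_isAffine (P := @QuasiCompact)).1 ‹_›
  have hcov : ∀ y : Y, ∃ V : Y.Opens, IsAffineOpen V ∧ y ∈ V := by
    intro y
    obtain ⟨_, ⟨V, hV, rfl⟩, hyV, -⟩ :=
      Y.isBasis_affineOpens.exists_subset_of_mem_open (Set.mem_univ y) isOpen_univ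
    exact ⟨V, hV, hyV⟩
  choose V hV hyV using hcov
  obtain ⟨F, hF⟩ := isCompact_univ.elim_finite_subcover (fun y => ((V y : Y.Opens) : Set Y))
    (fun y => (V y).2) (fun y _ => Set.mem_iUnion.2 ⟨y, hyV y⟩)
  haveI : ∀ y, CompactSpace ↥(V y).toScheme := fun y =>
    isCompact_iff_compactSpace.1 (hV y).isCompact
  refine exists_dense_isFinite_of_finite_cover f F (fun y => (V y).toScheme) (fun y => (V y).ι)
    ?_ (fun y _ => exists_dense_isFinite_affine_piece f (hV y))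
  intro y
  obtain ⟨z, hzF, hyz⟩ := Set.mem_iUnion₂.1 (hF (Set.mem_univ y))
  exact ⟨z, hzF, by rw [Scheme.Opens.range_ι]; exact hyz⟩

end Groth.Agent.Helper19.QfND

namespace Groth.Agent.Helper19.QfND

open AlgebraicGeometry CategoryTheory Limits

/-- finite over a supremum of opens -/
theorem isFinite_restrict_iSup {Y X : Scheme.{u}} (f : Y ⟶ X) {ι : Type*} (V : ι → X.Opens)
    (hV : ∀ i, IsFinite (f ∣_ V i)) : IsFinite (f ∣_ ⨆ i, V i) := by
  let 𝒰 := Scheme.Opens.iSupOpenCover V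
  refine (IsZariskiLocalAtTarget.iff_of_openCover (P := @IsFinite) 𝒰).mpr fun x ↦ ?_
  refine (MorphismProperty.arrow_mk_iso_iff @IsFinite
    ((morphismRestrictRestrict ..).symm ≪≫ morphismRestrictOpensRange ..)).mp ?_
  have : Scheme.Opens.ι _ ''ᵁ (𝒰.f x).opensRange = V x := by
    simp only [Scheme.Opens.iSupOpenCover, 𝒰, ← Scheme.Hom.opensRange_comp, Scheme.homOfLE_ι,
      Scheme.Opens.opensRange_ι]
  exact isFinite_restrict_opens_congr f this.symm (hV x)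

/-- **Quasi-finite morphisms are finite over a dense open of the target.** -/
theorem exists_dense_isFinite {Y X : Scheme.{u}} (f : Y ⟶ X) [LocallyQuasiFinite f]
    [LocallyOfFiniteType f] [QuasiCompact f] :
    ∃ U : X.Opens, Dense (U : Set X) ∧ IsFinite (f ∣_ U) := by
  let S := {V : X.Opens // IsFinite (f ∣_ V)}
  let U : X.Opens := ⨆ V : S, V.1
  have hfin : IsFinite (f ∣_ U) := isFinite_restrict_iSup f (fun V : S => V.1) fun V => V.2
  refine ⟨U, ?_, hfin⟩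
  rw [dense_iff_inter_open]
  rintro O hO ⟨x, hxO⟩
  obtain ⟨_, ⟨O', hO', rfl⟩, hxO', hO'O⟩ :=
    X.isBasis_affineOpens.exists_subset_of_mem_open hxO hO
  haveI : IsAffine (Scheme.Opens.toScheme O') := hO'
  haveI : LocallyQuasiFinite (f ∣_ O') := IsZariskiLocalAtTarget.restrict ‹_› O'
  haveI : LocallyOfFiniteType (f ∣_ O') := IsZariskiLocalAtTarget.restrict ‹_› O'
  haveI : QuasiCompact (f ∣_ O') := IsZariskiLocalAtTarget.restrict ‹_› O'
  obtain ⟨U', hU'd, hU'fin⟩ := exists_dense_isFinite_of_isAffine (f ∣_ O')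
  haveI : Nonempty ↥(Scheme.Opens.toScheme O') := ⟨⟨x, hxO'⟩⟩
  obtain ⟨z, hz⟩ := hU'd.nonempty
  let V : X.Opens := (Scheme.Opens.ι O') ''ᵁ U'
  have hVfin : IsFinite (f ∣_ V) :=
    (MorphismProperty.arrow_mk_iso_iff @IsFinite (morphismRestrictRestrict f O' U')).1 hU'fin
  have hVU : V ≤ U := le_iSup (fun V : S => V.1) ⟨V, hVfin⟩
  refine ⟨(Scheme.Opens.ι O') z, hO'O ?_, hVU ⟨z, hz, rfl⟩⟩
  exact z.2

end Groth.Agent.Helper19.QfND
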